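import Cfsg.Agent.Lib.StructB.HN2HS.Rep.Image
import Cfsg.Agent.Lib.KnownA.HSModel.Multiplier
import Cfsg.Agent.Lib.Coprime.Schur
import Cfsg.Agent.Lib.StructC.AltEightSocle

/-!
# The double cover of the Higman–Sims group in the group presented on x, y, z
-/

set_option autoImplicit false
set_option maxRecDepth 100000

namespace CfsgLib.StructB.HN2HS

open CfsgLib.InvChar.Coset CfsgLib.KnownA CfsgLib.KnownA.HSModel
open scoped commutatorElement

/-- In a quotient where `x` and `y` commute both die. -/
theorem collapse {Q : Type*} [Group Q] {x y z : Q} (hc : Commute x y) (h6 : y ^ 6 = 1)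
    (h4 : x ^ 4 = 1) (hb : (x⁻¹ * y * y * x * y * y * y) ^ 3 = 1) (h8 : (x * y) ^ 8 = 1)
    (hzz : z * z = 1) (hzx : z * x * (z * x) = 1)
    (hu : z * ((y * y * y * x * y * x * y)⁻¹ * z * (y * y * y * x * y * x * y) * x) ^ 3 = 1) :
    x = 1 ∧ y = 1 := by
  have h5 : x⁻¹ * y * y * x * y * y * y = y ^ 5 := by
    have : x⁻¹ * y * y * x = y * y := by
      rw [mul_assoc x⁻¹, mul_assoc x⁻¹, ← (hc.mul_right hc).eq, inv_mul_cancel_left]
    rw [this]; simp [pow_succ, mul_assoc]
  rw [h5, ← pow_mul] at hb
  have h3 : y ^ 3 = 1 := by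
    rw [show (5 * 3) = 6 * 2 + 3 by norm_num, pow_add, pow_mul, h6, one_pow, one_mul] at hb
    exact hb
  have hy8 : y ^ 8 = 1 := by
    rwa [hc.mul_pow, show x ^ 8 = (x ^ 4) ^ 2 by rw [← pow_mul], h4, one_pow, one_mul] at h8
  have hy2 : y ^ 2 = 1 := by
    rwa [show (8 : ℕ) = 3 * 2 + 2 by norm_num, pow_add, pow_mul, h3, one_pow, one_mul] at hy8
  have hy : y = 1 := by
    rwa [pow_succ, hy2, one_mul] at h3
  subst hy
  refine ⟨?_, rfl⟩
  simp only [one_mul, mul_one] at hu
  have e1 : z * x = x⁻¹ * z := by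
    have h := eq_inv_of_mul_eq_one_left hzx
    rw [mul_inv_rev, inv_eq_of_mul_eq_one_right hzz] at h
    exact h
  have e2 : (x * x)⁻¹ * z * (x * x) * x = z * x := by
    have e : ∀ g, z * (x * g) = x⁻¹ * (z * g) := fun g => by rw [← mul_assoc, e1, mul_assoc]
    have x4 : ∀ g : Q, x⁻¹ * (x⁻¹ * (x⁻¹ * (x⁻¹ * g))) = g := fun g => by
      rw [← mul_assoc, ← mul_assoc, ← mul_assoc, show x⁻¹ * x⁻¹ * x⁻¹ * x⁻¹ = (x ^ 4)⁻¹ by group, h4,
        inv_one, one_mul]
    simp only [mul_inv_rev, mul_assoc, e, e1]
    exact x4 _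
  rw [e2, pow_succ, pow_two, hzx, one_mul, ← mul_assoc, hzz, one_mul] at hu
  exact hu

theorem s_pow {r : List ℕ} (hr : r ∈ P352.rels) : wprod s r = 1 := s_rel hr

theorem zxz : s 4 * s 0 * s 4 = (s 0)⁻¹ := by
  have h := s_rel (r := [4, 0, 4, 0]) (by decide +kernel)
  simp only [wprod, List.map_cons, List.map_nil, List.prod_cons, List.prod_nil, mul_one] at h
  exact eq_inv_of_mul_eq_one_left (by simpa [mul_assoc] using h)

theorem z_inv : (s 4)⁻¹ = s 4 := inv_eq_of_mul_eq_one_right s_four

/-- The generators of the even part. -/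
def kgens : Set P :=
  {s 0, s 1, s 2, s 3, s 4 * s 2 * s 4, s 4 * s 3 * s 4}

/-- The even part. -/
def K : Subgroup P := Subgroup.closure kgens

theorem map_K : K.map Rep.phi = hsPermGroup := by
  rw [← Rep.gens_eq, PermCert.genGroup, Rep.gens_set, K, MonoidHom.map_closure]
  congr 1
  simp [kgens, Set.image_insert_eq, map_mul, Rep.phi_s]

theorem letters_mem {g : P} (hg : g ∈ kgens) : g ∈ K := Subgroup.subset_closure hg

theorem z_conj {k : P} (hk : k ∈ K) : s 4 * k * s 4 ∈ K := by
  have h4 := s_four
  have zz : ∀ g : P, s 4 * (s 4 * g) = g := fun g => by rw [← mul_assoc, h4, one_mul]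
  induction hk using Subgroup.closure_induction with
  | mem g hg =>
    rcases hg with rfl | rfl | rfl | rfl | rfl | rfl
    · rw [zxz]; exact inv_mem (letters_mem (by simp [kgens]))
    · have : s 4 * s 1 * s 4 = (s 4 * s 0 * s 4)⁻¹ := by rw [s_one, mul_inv_rev, mul_inv_rev, z_inv, mul_assoc]
      rw [this, zxz, inv_inv]; exact letters_mem (by simp [kgens])
    · exact letters_mem (by simp [kgens])
    · exact letters_mem (by simp [kgens])
    · have : s 4 * (s 4 * s 2 * s 4) * s 4 = s 2 := by simp only [mul_assoc, zz, h4, mul_one]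
      rw [this]; exact letters_mem (by simp [kgens])
    · have : s 4 * (s 4 * s 3 * s 4) * s 4 = s 3 := by simp only [mul_assoc, zz, h4, mul_one]
      rw [this]; exact letters_mem (by simp [kgens])
  | one => rw [mul_one, h4]; exact one_mem _
  | mul a b _ _ ha hb =>
    have : s 4 * (a * b) * s 4 = (s 4 * a * s 4) * (s 4 * b * s 4) := by
      simp only [mul_assoc, zz]
    rw [this]; exact mul_mem ha hb
  | inv a _ ha =>
    have : s 4 * a⁻¹ * s 4 = (s 4 * a * s 4)⁻¹ := by rw [mul_inv_rev, mul_inv_rev, z_inv, mul_assoc]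
    rw [this]; exact inv_mem ha

theorem low_mem : ∀ n, n < 4 → s n ∈ K := by
  intro n hn
  interval_cases n <;> exact letters_mem (by simp [kgens])

theorem mem_or (g : P) : g ∈ K ∨ g * s 4 ∈ K := by
  induction (s_gen ▸ Subgroup.mem_top g : g ∈ Subgroup.closure (s '' Set.Iio 5))
    using Subgroup.closure_induction_right with
  | one => exact Or.inl (one_mem _)
  | mul_right a _ b hb iha =>
    obtain ⟨n, hn, rfl⟩ := hb
    rcases Nat.lt_or_ge n 4 with h | h
    · rcases iha with ha | ha
      · exact Or.inl (mul_mem ha (low_mem n h))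
      · refine Or.inr ?_
        have e : a * s n * s 4 = (a * s 4) * (s 4 * s n * s 4) := by
          simp only [mul_assoc]; rw [← mul_assoc (s 4) (s 4), s_four, one_mul]
        rw [e]; exact mul_mem ha (z_conj (low_mem n h))
    · obtain rfl : n = 4 := by simp only [Set.mem_Iio] at hn; omega
      rcases iha with ha | ha
      · exact Or.inr (by rwa [mul_assoc, s_four, mul_one])
      · exact Or.inl ha
  | mul_inv_cancel a _ b hb iha =>
    obtain ⟨n, hn, rfl⟩ := hb
    rcases Nat.lt_or_ge n 4 with h | h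
    · rcases iha with ha | ha
      · exact Or.inl (mul_mem ha (inv_mem (low_mem n h)))
      · refine Or.inr ?_
        have e : a * (s n)⁻¹ * s 4 = (a * s 4) * (s 4 * (s n)⁻¹ * s 4) := by
          simp only [mul_assoc]; rw [← mul_assoc (s 4) (s 4), s_four, one_mul]
        rw [e]; exact mul_mem ha (z_conj (inv_mem (low_mem n h)))
    · obtain rfl : n = 4 := by simp only [Set.mem_Iio] at hn; omega
      rw [z_inv]
      rcases iha with ha | ha
      · exact Or.inr (by rwa [mul_assoc, s_four, mul_one])
      · exact Or.inl ha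

theorem z_not_mem : s 4 ∉ K := fun h => by
  have h1 := Rep.even_sign (map_K ▸ Subgroup.mem_map_of_mem Rep.phi h)
  rw [Rep.phi_s (by omega), Rep.sign_z] at h1
  exact absurd h1 (by decide)

theorem index_K : K.index = 2 := by
  rw [Subgroup.index_eq_two_iff]
  refine ⟨s 4, fun b => ?_⟩
  rcases mem_or b with h | h
  · refine Or.inr ⟨h, fun hb => z_not_mem ?_⟩
    have := mul_mem (inv_mem h) hb
    rwa [inv_mul_cancel_left] at this
  · refine Or.inl ⟨h, fun hb => z_not_mem ?_⟩
    have := mul_mem (inv_mem hb) h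
    rwa [inv_mul_cancel_left] at this

instance normal_K : K.Normal := Subgroup.normal_of_index_eq_two index_K

theorem finite_P : Finite P := Nat.finite_of_card_ne_zero card_P.1

theorem perfect_K : commutator K = ⊤ := by
  refine Subgroup.map_injective K.subtype_injective ?_
  rw [Subgroup.map_subtype_commutator, ← MonoidHom.range_eq_map, Subgroup.range_subtype]
  refine le_antisymm (Subgroup.commutator_le_left K K) ?_
  let C : Subgroup P := ⁅K, K⁆
  show K ≤ C
  let q := QuotientGroup.mk' C
  have hcomm : ∀ a ∈ K, ∀ b ∈ K, Commute (q a) (q b) := by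
    intro a ha b hb
    have h : q ⁅a, b⁆ = 1 := (QuotientGroup.eq_one_iff _).2 (Subgroup.commutator_mem_commutator ha hb)
    rw [map_commutatorElement, commutatorElement_eq_one_iff_mul_comm] at h
    exact h
  have hr : ∀ r ∈ P352.rels, q (wprod s r) = 1 := fun r hr => by rw [s_rel hr, map_one]
  have h6 := hr [2, 2, 2, 2, 2, 2] (by decide +kernel)
  have hb := hr [1, 2, 2, 0, 2, 2, 2, 1, 2, 2, 0, 2, 2, 2, 1, 2, 2, 0, 2, 2, 2] (by decide +kernel)
  have h8 := hr [0, 2, 0, 2, 0, 2, 0, 2, 0, 2, 0, 2, 0, 2, 0, 2] (by decide +kernel)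
  have h44 := hr [4, 4] (by decide +kernel)
  have h4040 := hr [4, 0, 4, 0] (by decide +kernel)
  have hu := hr [4, 3, 1, 3, 1, 3, 3, 3, 4, 2, 2, 2, 0, 2, 0, 2, 0, 3, 1, 3, 1, 3, 3, 3, 4, 2, 2, 2,
    0, 2, 0, 2, 0, 3, 1, 3, 1, 3, 3, 3, 4, 2, 2, 2, 0, 2, 0, 2, 0] (by decide +kernel)
  obtain ⟨hx, hy⟩ := collapse (x := q (s 0)) (y := q (s 2)) (z := q (s 4))
    (hcomm _ (low_mem 0 (by omega)) _ (low_mem 2 (by omega)))
    (by simpa [wprod, pow_succ, mul_assoc] using h6)
    (by rw [← map_pow, s_x4, map_one])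
    (by simpa [wprod, s_one, pow_succ, mul_assoc] using hb)
    (by simpa [wprod, pow_succ, mul_assoc] using h8)
    (by simpa [wprod] using h44)
    (by simpa [wprod, mul_assoc] using h4040)
    (by simpa [wprod, s_one, s_three, pow_succ, mul_assoc] using hu)
  have hle : K ≤ q.ker := by
    refine (Subgroup.closure_le _).2 ?_
    rintro g (rfl | rfl | rfl | rfl | rfl | rfl) <;> simp only [SetLike.mem_coe, MonoidHom.mem_ker]
    · exact hx
    · rw [s_one, map_inv, hx, inv_one]
    · exact hy
    · rw [s_three, map_inv, hy, inv_one]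
    · rw [map_mul, map_mul, hy, mul_one, ← map_mul, s_four, map_one]
    · rw [map_mul, map_mul, s_three, map_inv, hy, inv_one, mul_one, ← map_mul, s_four, map_one]
  rwa [QuotientGroup.ker_mk'] at hle

/-- The action of the even part. -/
noncomputable def phiK : K →* hsPermGroup :=
  (Rep.phi.comp K.subtype).codRestrict _ fun k => map_K ▸ Subgroup.mem_map_of_mem Rep.phi k.2

theorem phiK_surjective : Function.Surjective phiK := by
  rintro ⟨σ, hσ⟩
  rw [← map_K] at hσ
  obtain ⟨k, hk, rfl⟩ := hσ
  exact ⟨⟨k, hk⟩, rfl⟩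

theorem card_ker : Nat.card phiK.ker ≤ 6 := by
  have := finite_P
  have h1 : Nat.card K * 2 = Nat.card P := index_K ▸ K.card_mul_index
  have h2 : Nat.card phiK.ker * 44352000 = Nat.card K := by
    rw [← phiK.ker.card_mul_index, Subgroup.index_ker, MonoidHom.range_eq_top.2 phiK_surjective,
      Subgroup.card_top, card_hsPermGroup]
  have := card_P.2
  omega

theorem ker_central : phiK.ker ≤ Subgroup.center K := by
  have := finite_P
  have := Rep.simple
  let E := phiK.ker
  let c : K →* MulAut E := MulAut.conjNormal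
  have hsol : ∀ L : Subgroup K, L ≤ E → Group.IsSolvable L := fun L hL =>
    CfsgLib.StructC.AltEight.solvable_of_card_le_eight
      (((Subgroup.card_le_of_le hL).trans card_ker).trans (by omega))
  suffices hc : c.ker = ⊤ by
    intro e he
    rw [Subgroup.mem_center_iff]
    intro k
    have h := congrArg (fun a : MulAut E => ((a ⟨e, he⟩ : E) : K))
      (MonoidHom.mem_ker.1 (hc ▸ Subgroup.mem_top k : k ∈ c.ker))
    simp only [c, MulAut.conjNormal_apply, MulAut.one_apply] at h
    exact mul_inv_eq_iff_eq_mul.1 h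
  rcases ((Subgroup.Normal.map inferInstance phiK phiK_surjective :
      (c.ker.map phiK).Normal)).eq_bot_or_eq_top with h | h
  · exfalso
    have hle : c.ker ≤ E := (Subgroup.map_eq_bot_iff _).1 h
    have h1 := c.ker.card_mul_index
    rw [Subgroup.index_ker] at h1
    have h2 : Nat.card c.range ≤ 6 ^ 6 := by
      have : Nat.card c.range ≤ Nat.card (E → E) :=
        (Nat.card_le_card_of_injective _ c.range.subtype_injective).trans
          (Nat.card_le_card_of_injective (fun a : MulAut E => (a : E → E)) DFunLike.coe_injective)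
      rw [Nat.card_fun] at this
      exact this.trans ((Nat.pow_le_pow_left card_ker _).trans (Nat.pow_le_pow_right (by omega) card_ker))
    have h3 : Nat.card c.ker ≤ 6 := (Subgroup.card_le_of_le hle).trans card_ker
    have h4 : 44352000 ≤ Nat.card K := by
      rw [← card_hsPermGroup]; exact Nat.card_le_card_of_surjective _ phiK_surjective
    have h5 := Nat.mul_le_mul h3 h2
    rw [h1] at h5
    norm_num at h5
    omega
  · -- the image is an image of the kernel, hence solvable
    have hsup : ∀ k : K, ∃ e ∈ E, c k = c e := by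
      intro k
      obtain ⟨n, hn, hnk⟩ := (Subgroup.mem_map).1 (h ▸ Subgroup.mem_top (phiK k) : phiK k ∈ c.ker.map phiK)
      refine ⟨n⁻¹ * k, by simp [E, MonoidHom.mem_ker, hnk], ?_⟩
      rw [map_mul, map_inv, MonoidHom.mem_ker.1 hn, inv_one, one_mul]
    let cE : E →* c.range := (c.comp E.subtype).codRestrict _ fun e => ⟨_, rfl⟩
    have hsurj : Function.Surjective cE := by
      rintro ⟨_, k, rfl⟩
      obtain ⟨e, he, hek⟩ := hsup k
      exact ⟨⟨e, he⟩, Subtype.ext hek.symm⟩
    have : Group.IsSolvable E := hsol E le_rfl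
    have : Group.IsSolvable c.range := Group.isSolvable_of_surjective hsurj
    have hperf : commutator c.range = ⊤ := by
      rw [commutator_def, ← Subgroup.map_top_of_surjective c.rangeRestrict c.rangeRestrict_surjective,
        ← Subgroup.map_commutator]
      exact congrArg _ perfect_K
    have hsub : Subsingleton c.range := by
      by_contra hns
      have := not_subsingleton_iff_nontrivial.1 hns
      exact (Group.IsSolvable.commutator_lt_top_of_nontrivial c.range).ne hperf
    refine eq_top_iff.2 fun k _ => MonoidHom.mem_ker.2 ?_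
    exact congrArg Subtype.val (Subsingleton.elim (⟨c k, k, rfl⟩ : c.range) 1)

theorem card_ker_le_two : Nat.card phiK.ker ≤ 2 := by
  have := finite_P
  have hst : Cfsg.IsStemExtension phiK :=
    ⟨phiK_surjective, ker_central, perfect_K ▸ le_top⟩
  obtain ⟨π, hπ⟩ := CfsgLib.Schur.exists_surjective_of_stem hst
  have hfin : Finite hsPermGroup := inferInstance
  have hm := (CfsgLib.Schur.hasCyclicSchurMultiplier_iff.1 multiplier).2
  have : Finite ↥(CfsgLib.Schur.mult hsPermGroup) := Nat.finite_of_card_ne_zero (by rw [hm]; omega)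
  exact (Nat.card_le_card_of_surjective π hπ).trans hm.le

/-- The square of `x`, in the even part. -/
def xx : K := ⟨s 0 * s 0, mul_mem (low_mem 0 (by omega)) (low_mem 0 (by omega))⟩

theorem xx_ker : xx ∈ phiK.ker := by
  rw [MonoidHom.mem_ker]
  refine Subtype.ext ?_
  show Rep.phi (s 0 * s 0) = 1
  rw [map_mul, Rep.phi_s (by omega), Rep.xx_one]

theorem center_K : Subgroup.center K = phiK.ker := by
  refine le_antisymm ?_ ker_central
  intro c hc
  rw [MonoidHom.mem_ker]
  refine Subtype.ext ?_
  refine Rep.cent_trivial fun σ hσ => ?_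
  obtain ⟨k, hk⟩ := phiK_surjective ⟨σ, hσ⟩
  have h := congrArg (fun a : K => ((phiK a : hsPermGroup) : Equiv.Perm (Fin 100)))
    (Subgroup.mem_center_iff.1 hc k)
  simp only [map_mul, Subgroup.coe_mul, hk] at h
  exact h

/-- A map of the presented group not killing `x²` is injective. -/
theorem injective_of_xx {G : Type} [Group G] (f : P →* G) (h : f (s 0 * s 0) ≠ 1) :
    Function.Injective f := by
  have := finite_P
  have := Rep.simple
  let fK : K →* G := f.comp K.subtype
  have hK : fK.ker = ⊥ := by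
    rcases ((Subgroup.Normal.map inferInstance phiK phiK_surjective :
        (fK.ker.map phiK).Normal)).eq_bot_or_eq_top with h1 | h1
    · have hle : fK.ker ≤ phiK.ker := (Subgroup.map_eq_bot_iff _).1 h1
      by_contra hne
      have hlt : fK.ker < phiK.ker := lt_of_le_of_ne hle fun e => h (MonoidHom.mem_ker.1 (e ▸ xx_ker : xx ∈ fK.ker))
      have : 1 < Nat.card fK.ker := (Subgroup.one_lt_card_iff_ne_bot _).2 hne
      have := card_ker_le_two
      exact hlt.ne (Subgroup.eq_of_le_of_card_ge hle (by omega))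
    · exfalso
      apply h
      have hcomm : commutator K ≤ fK.ker := by
        rw [commutator_def, Subgroup.commutator_le]
        intro a _ b _
        obtain ⟨n, hn, hna⟩ := Subgroup.mem_map.1 (h1 ▸ Subgroup.mem_top (phiK a) : phiK a ∈ fK.ker.map phiK)
        have hz : n⁻¹ * a ∈ Subgroup.center K := ker_central (by simp [MonoidHom.mem_ker, hna])
        have hfa : fK a = fK (n⁻¹ * a) := by
          rw [map_mul, map_inv, MonoidHom.mem_ker.1 hn, inv_one, one_mul]
        rw [MonoidHom.mem_ker, map_commutatorElement, hfa, ← map_commutatorElement,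
          commutatorElement_eq_one_iff_mul_comm.2 (Subgroup.mem_center_iff.1 hz b).symm, map_one]
      exact MonoidHom.mem_ker.1 (hcomm (perfect_K ▸ Subgroup.mem_top xx))
  have hKmem : ∀ g : P, g ∈ K → f g = (1 : G) → g = (1 : P) := fun g hg hfg =>
    congrArg Subtype.val ((MonoidHom.ker_eq_bot_iff fK).1 hK (show fK ⟨g, hg⟩ = fK 1 from hfg.trans (map_one fK).symm))
  rw [← MonoidHom.ker_eq_bot_iff, Subgroup.eq_bot_iff_forall]
  intro g hg
  rw [MonoidHom.mem_ker] at hg
  rcases mem_or g with hgK | hgz
  · exact hKmem g hgK hg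
  · exfalso
    have hcomm : ∀ k ∈ K, k * g = g * k := fun k hk => by
      have h1 := hKmem (k * (g * k⁻¹ * g⁻¹))
        (mul_mem hk (normal_K.conj_mem _ (inv_mem hk) g)) (by simp [map_mul, hg])
      rw [← mul_assoc, ← mul_assoc, mul_inv_eq_one, mul_inv_eq_iff_eq_mul] at h1
      exact h1
    have hphi : Rep.phi g = 1 := Rep.cent_trivial fun σ hσ => by
      rw [← map_K] at hσ
      obtain ⟨k, hk, rfl⟩ := hσ
      rw [← map_mul, ← map_mul, hcomm k hk]
    have h1 := Rep.even_sign (map_K ▸ Subgroup.mem_map_of_mem Rep.phi hgz)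
    rw [map_mul, hphi, one_mul, Rep.phi_s (by omega), Rep.sign_z] at h1
    exact absurd h1 (by decide)

/-- The even part is a non-split double cover of the numbered Higman–Sims group. -/
theorem cover (h : xx ≠ 1) :
    Nat.card (Subgroup.center K) = 2 ∧ Nonempty (K ⧸ Subgroup.center K ≃* hsPermGroup) ∧
      ∀ L : Subgroup K, ¬ (Subgroup.center K).IsComplement' L := by
  have := finite_P
  have hcard : Nat.card (Subgroup.center K) = 2 := by
    refine le_antisymm (center_K ▸ card_ker_le_two) ?_
    exact (Subgroup.one_lt_card_iff_ne_bot _).2 fun e => h (Subgroup.mem_bot.1 (e ▸ center_K ▸ xx_ker))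
  refine ⟨hcard, ⟨(QuotientGroup.quotientMulEquivOfEq center_K).trans
    (QuotientGroup.quotientKerEquivOfSurjective _ phiK_surjective)⟩, fun L hL => ?_⟩
  have hi : L.index = 2 := by rw [hL.index_eq_card, hcard]
  have : L.Normal := Subgroup.normal_of_index_eq_two hi
  have hle : commutator K ≤ L := by
    rw [commutator_def, Subgroup.commutator_le]
    intro a _ b _
    have hc : IsCyclic (K ⧸ L) := isCyclic_of_prime_card (p := 2) hi
    have h1 : QuotientGroup.mk' L ⁅a, b⁆ = 1 := by
      rw [map_commutatorElement, commutatorElement_eq_one_iff_mul_comm]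
      exact hc.commGroup.mul_comm _ _
    exact (QuotientGroup.eq_one_iff _).1 h1
  rw [perfect_K, top_le_iff] at hle
  rw [hle, Subgroup.index_top] at hi
  omega

end CfsgLib.StructB.HN2HS
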