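import Cfsg.Prelude.Def_Spor_HN
import Cfsg.Prelude.Def_SporadicB
import Cfsg.Agent.Lib.StructB.HN2HS.Group
import Cfsg.Agent.Lib.StructB.HN133.Main

/-!
# The subgroup generated by x, y, z in the presented Harada–Norton group
-/

set_option autoImplicit false
set_option maxRecDepth 100000

namespace CfsgLib.StructB.HN2HS

open Cfsg Cfsg.Spor CfsgLib.InvChar.Coset CfsgLib.KnownA

/-- Transport of a non-split double cover along an isomorphism. -/
theorem nonsplit_transport {H H' Q Q' : Type*} [Group H] [Group H'] [Group Q] [Group Q'] (e : H ≃* H')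
    (q : Q ≃* Q') (h : IsNonsplitDoubleCover H Q) : IsNonsplitDoubleCover H' Q' := by
  obtain ⟨h1, ⟨i⟩, h3⟩ := h
  have hz : (Subgroup.center H).map e.toMonoidHom = Subgroup.center H' := by
    ext y
    rw [Subgroup.mem_map_equiv, Subgroup.mem_center_iff, Subgroup.mem_center_iff]
    constructor
    · intro hy g
      have := congrArg e (hy (e.symm g))
      simpa using this
    · intro hy g
      apply e.injective
      simpa using hy (e g)
  refine ⟨?_, ⟨(QuotientGroup.congr _ _ e hz).symm.trans (i.trans q)⟩, fun L hL => ?_⟩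
  · rw [← hz]
    exact (Nat.card_congr (e.subgroupMap (Subgroup.center H)).toEquiv).symm.trans h1
  · refine h3 (L.comap e.toMonoidHom) ?_
    rw [Subgroup.isComplement'_def, Subgroup.isComplement_iff_existsUnique]
    intro g
    rw [Subgroup.isComplement'_def, Subgroup.isComplement_iff_existsUnique] at hL
    obtain ⟨⟨⟨a, ha⟩, ⟨b, hb⟩⟩, hab, huniq⟩ := hL (e g)
    have ha' : e.symm a ∈ Subgroup.center H := by
      rw [← hz] at ha; exact Subgroup.mem_map_equiv.1 ha
    have hb' : e.symm b ∈ L.comap e.toMonoidHom := by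
      show e (e.symm b) ∈ L
      rwa [e.apply_symm_apply]
    refine ⟨⟨⟨_, ha'⟩, ⟨_, hb'⟩⟩, ?_, fun ⟨⟨c, hc⟩, ⟨d, hd⟩⟩ hcd => ?_⟩
    · apply e.injective
      simpa using hab
    · have := huniq ⟨⟨e c, hz ▸ Subgroup.mem_map_of_mem _ hc⟩, ⟨e d, hd⟩⟩ (by
        show e c * e d = e g
        rw [← map_mul]; exact congrArg e hcd)
      simp only [Prod.mk.injEq, Subtype.mk.injEq] at this ⊢
      exact ⟨by rw [← this.1, e.symm_apply_apply],
        e.injective ((congrArg Subtype.val this.2).trans (e.apply_symm_apply b).symm)⟩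

/-- The quotient map of the presentation. -/
noncomputable abbrev mkHN : FreeGroup HN.Gen →* HN :=
  PresentedGroup.mk (coxRelators HN.edges ∪ {r | r ∈ HN.extra})

/-- The images of the three generators. -/
noncomputable def hf : Fin 3 → HN := ![mkHN HN.x, mkHN HN.y, mkHN HN.z]

theorem extra_one {r : FreeGroup HN.Gen} (hr : r ∈ HN.extra) : mkHN r = 1 :=
  PresentedGroup.one_of_mem (Or.inr hr)

theorem hf_rel : ∀ w ∈ rel, FreeGroup.lift hf w = 1 := by
  rintro _ ⟨r, hr, rfl⟩
  have zz : mkHN HN.z * mkHN HN.z = 1 := by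
    rw [← map_mul, ← pow_two]; exact extra_one (by simp [HN.extra])
  have zi : (mkHN HN.z)⁻¹ = mkHN HN.z := inv_eq_of_mul_eq_one_right zz
  have get : ∀ {v : FreeGroup HN.Gen}, v ∈ HN.extra → mkHN v = 1 := fun h => extra_one h
  simp only [P352.rels, List.mem_cons, List.not_mem_nil, or_false] at hr
  rcases hr with rfl | rfl | rfl | rfl | rfl | rfl | rfl | rfl | rfl | rfl | rfl | rfl | rfl | rfl | rfl <;>
    simp only [wprod, List.map_cons, List.map_nil, List.prod_cons, List.prod_nil, mul_one, fs,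
      map_mul, map_inv, map_one, FreeGroup.lift_apply_of, hf, Matrix.cons_val_zero, Matrix.cons_val_one,
      Matrix.cons_val]
  · have h := get (v := HN.y ^ 6) (by simp [HN.extra])
    simpa [pow_succ, mul_assoc] using h
  · have h := get (v := (HN.x ^ 2) * HN.y * (HN.x ^ 2) * (HN.y⁻¹)) (by simp [HN.extra])
    simpa [pow_succ, mul_assoc] using h
  · have h := get (v := (HN.x⁻¹ * HN.y⁻¹ * HN.x * HN.y) ^ 3) (by simp [HN.extra])
    simpa [pow_succ, mul_assoc] using h
  · have h := get (v := ((HN.x⁻¹) * (HN.y ^ 2) * HN.x * (HN.y ^ 3)) ^ 3) (by simp [HN.extra])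
    simpa [pow_succ, mul_assoc] using h
  · have h := get (v := (HN.x * HN.y) ^ 8) (by simp [HN.extra])
    simpa [pow_succ, mul_assoc] using h
  · have h := get (v := (HN.x * HN.y * HN.x * (HN.y ^ 3)) ^ 4) (by simp [HN.extra])
    simpa [pow_succ, mul_assoc] using h
  · exact zz
  · have h := get (v := (HN.z * HN.x) ^ 2) (by simp [HN.extra])
    simpa [pow_succ, mul_assoc] using h
  · have h := get (v := (HN.z⁻¹ * (HN.y * HN.x * HN.y * HN.x * (HN.y ^ 2) * HN.x * (HN.y⁻¹))⁻¹ * HN.z *
      (HN.y * HN.x * HN.y * HN.x * (HN.y ^ 2) * HN.x * (HN.y⁻¹))) * ((HN.x ^ 2)⁻¹)) (by simp [HN.extra])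
    simpa [pow_succ, mul_assoc, zi] using h
  · have h := get (v := HN.z * (((((HN.y ^ 3) * HN.x * HN.y * HN.x * HN.y)⁻¹ * HN.z *
      ((HN.y ^ 3) * HN.x * HN.y * HN.x * HN.y)) * HN.x) ^ 3)) (by simp [HN.extra])
    simpa [pow_succ, mul_assoc, zi] using h
  · simp
  · simp
  · simp
  · simp
  · exact zz

/-- The map to the presented Harada–Norton group. -/
noncomputable def emb : P →* HN := PresentedGroup.toGroup hf_rel

theorem emb_s0 : emb (s 0) = mkHN HN.x := by
  show FreeGroup.lift hf (fs 0) = _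
  simp [fs, hf]

theorem emb_xx : emb (s 0 * s 0) ≠ 1 := by
  rw [map_mul, emb_s0, ← map_mul, ← pow_two]
  exact HN133.x_sq_ne_one

theorem emb_range : emb.range =
    (Subgroup.closure ({HN.x, HN.y, HN.z} : Set (FreeGroup HN.Gen))).map mkHN := by
  rw [MonoidHom.map_closure, MonoidHom.range_eq_map, ← PresentedGroup.closure_range_of rel,
    MonoidHom.map_closure]
  congr 1
  ext g
  simp only [Set.mem_image, Set.mem_range, exists_exists_eq_and, Set.mem_insert_iff, Set.mem_singleton_iff]
  constructor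
  · rintro ⟨i, rfl⟩
    refine ⟨![HN.x, HN.y, HN.z] i, ?_, ?_⟩
    · fin_cases i <;> simp
    · rw [emb, PresentedGroup.toGroup.of]
      fin_cases i <;> rfl
  · rintro ⟨v, hv | hv | hv, rfl⟩ <;> subst hv
    · exact ⟨0, PresentedGroup.toGroup.of _⟩
    · exact ⟨1, PresentedGroup.toGroup.of _⟩
    · exact ⟨2, PresentedGroup.toGroup.of _⟩

end CfsgLib.StructB.HN2HS
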