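import Cfsg.Agent.Lib.KnownA.CosetInvGroup
import Cfsg.Agent.Lib.StructB.HN2HS.X4.Main
import Cfsg.Agent.Lib.StructB.HN2HS.P352.Main
import Cfsg.Agent.Lib.StructB.HN2HS.S12600.Main
import Cfsg.Agent.Lib.StructB.HN2HS.S5.Main

/-!
# The group presented by the relations on x, y, z has order at most 3 · 4 · |HS|

Three coset enumerations: `⟨x, y⟩` has index at most 352, `⟨y, v⟩` with `v = x⁻¹y³x` index at most
12600 in it, and `⟨y, v⟩` order at most 120.
-/

set_option autoImplicit false
set_option maxRecDepth 100000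

namespace CfsgLib.StructB.HN2HS

open CfsgLib.InvChar.Coset CfsgLib.KnownA CfsgLib.KnownA.CosetInv

/-- The closing path of a goal certificate gives membership. -/
theorem mem_of_path {G : Type*} [Group G] {D : CosetInv.Cert} {s : ℕ → G} {H : Subgroup G}
    (hg : Good D s) (hR : ∀ r ∈ D.rels, wprod s r = 1) (hS : ∀ r ∈ D.subs, wprod s r ∈ H)
    {nb : ℕ} (hnb : D.nf ≤ nb * 128)
    (h : ∀ j < nb, D.chkRun 128 (j * 128) (D.just.get j) = true) {n st : ℕ} {w : List ℕ}
    (hp : D.walk D.nf n st 0 [] (fun _ c L => Nat.beq c 0 && leq L.reverse w) = true) :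
    wprod s w ∈ H := by
  obtain ⟨st', c', L', hk, hi⟩ :=
    walk_sound hg (holds_of_blocks hg hR hS nb hnb h) _ _ _ _ _ hp
  rw [Bool.and_eq_true] at hk
  have h1 := hi 1 (by simp [wprod, CosetInv.nodeRep])
  rw [Nat.eq_of_beq_eq_true hk.1, eq_of_leq _ _ hk.2] at h1
  simpa [CosetInv.nodeRep] using h1

/-- The letters in the free group. -/
def fs : ℕ → FreeGroup (Fin 3)
  | 0 => FreeGroup.of 0
  | 1 => (FreeGroup.of 0)⁻¹
  | 2 => FreeGroup.of 1
  | 3 => (FreeGroup.of 1)⁻¹
  | 4 => FreeGroup.of 2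
  | _ => 1

/-- The relators. -/
def rel : Set (FreeGroup (Fin 3)) := {w | ∃ r ∈ P352.rels, w = wprod fs r}

/-- The presented group. -/
abbrev P : Type := PresentedGroup rel

/-- The letters in the presented group. -/
def s (n : ℕ) : P := PresentedGroup.mk rel (fs n)

theorem s_rel {r : List ℕ} (hr : r ∈ P352.rels) : wprod s r = 1 := by
  rw [← map_wprod (PresentedGroup.mk rel) fs s r fun _ _ => rfl]
  exact PresentedGroup.one_of_mem ⟨r, hr, rfl⟩

theorem s_one : s 1 = (s 0)⁻¹ := map_inv (PresentedGroup.mk rel) _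

theorem s_three : s 3 = (s 2)⁻¹ := map_inv (PresentedGroup.mk rel) _

theorem s_four : s 4 * s 4 = 1 := by
  simpa [wprod] using s_rel (r := [4, 4]) (by decide +kernel)

theorem s_big {n : ℕ} (h : 5 ≤ n) : s n = 1 := by
  obtain ⟨k, rfl⟩ : ∃ k, n = 5 + k := ⟨n - 5, by omega⟩
  rw [Nat.add_comm]
  exact map_one _

theorem good_of {G : Type*} [Group G] (D : CosetInv.Cert) (hD : D.ivs = 0xfedcba9876542301)
    (t : ℕ → G) (h1 : t 1 = (t 0)⁻¹) (h3 : t 3 = (t 2)⁻¹) (h4 : t 4 * t 4 = 1)
    (hbig : ∀ n, 5 ≤ n → t n = 1) : Good D t := by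
  refine ⟨hbig 15 (by omega), fun x => ?_⟩
  rcases Nat.lt_or_ge x 16 with hx | hx
  · have e : D.iv x = (0xfedcba9876542301 >>> (4 * x)) % 16 := by
      unfold CosetInv.Cert.iv
      rw [show Nat.blt x 16 = true by simpa [Nat.blt] using hx, hD]
      rfl
    rw [e]
    interval_cases x <;>
      first
        | exact h1
        | exact h3
        | exact (by show t 0 = (t 1)⁻¹; rw [h1, inv_inv])
        | exact (by show t 2 = (t 3)⁻¹; rw [h3, inv_inv])
        | exact (by show t 4 = (t 4)⁻¹; exact eq_inv_of_mul_eq_one_left h4)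
        | (norm_num; first | (apply hbig; omega) | simp [hbig])
  · have e : D.iv x = x := by
      unfold CosetInv.Cert.iv
      rw [show Nat.blt x 16 = false by
        cases hb : Nat.blt x 16
        · rfl
        · exact absurd (Nat.blt_eq.mp hb) (by omega)]
      rfl
    rw [e, hbig x (by omega), inv_one]

theorem s_x4 : s 0 ^ 4 = 1 := by
  have h := mem_of_path (D := X4.cert) (s := s) (H := ⊥) (good_of _ rfl s s_one s_three s_four fun _ => s_big)
    (fun r hr => s_rel (by
      have e : X4.cert.rels = P352.rels := by decide +kernel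
      exact e ▸ hr))
    (fun r hr => absurd hr (by simp [X4.cert, X4.subs])) (nb := 2) (by decide +kernel) X4.facts_ok X4.path_ok
  rw [Subgroup.mem_bot] at h
  simpa [wprod, pow_succ, mul_assoc] using h

theorem s_gen : Subgroup.closure (s '' Set.Iio 5) = ⊤ := by
  rw [eq_top_iff, ← PresentedGroup.closure_range_of rel, Subgroup.closure_le]
  rintro _ ⟨a, rfl⟩
  fin_cases a
  · exact Subgroup.subset_closure ⟨0, by simp, rfl⟩
  · exact Subgroup.subset_closure ⟨2, by simp, rfl⟩
  · exact Subgroup.subset_closure ⟨4, by simp, rfl⟩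

/-- `⟨x, y⟩`. -/
def XY : Subgroup P := Subgroup.closure {s 0, s 2}

theorem xy_index : XY.index ≠ 0 ∧ XY.index ≤ 352 :=
  P352.covered.index_le s XY (good_of _ rfl s s_one s_three s_four fun _ => s_big)
    (fun _ hr => s_rel hr)
    (fun r hr => by
      have hr' : r ∈ [[0], [2]] := hr
      simp only [List.mem_cons, List.not_mem_nil, or_false] at hr'
      rcases hr' with rfl | rfl
      · simpa [wprod, XY] using Subgroup.subset_closure (k := {s 0, s 2}) (Or.inl rfl)
      · simpa [wprod, XY] using Subgroup.subset_closure (k := {s 0, s 2}) (Or.inr rfl))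
    s_gen

theorem mem_XY : ∀ n, n < 4 → s n ∈ XY := by
  intro n hn
  interval_cases n
  · exact Subgroup.subset_closure (Or.inl rfl)
  · rw [s_one]; exact inv_mem (Subgroup.subset_closure (Or.inl rfl))
  · exact Subgroup.subset_closure (Or.inr rfl)
  · rw [s_three]; exact inv_mem (Subgroup.subset_closure (Or.inr rfl))

/-- The letters of `⟨x, y⟩`. -/
def sH (n : ℕ) : XY := if h : n < 4 then ⟨s n, mem_XY n h⟩ else 1

theorem sH_val {n : ℕ} (h : n < 4) : (sH n : P) = s n := by simp [sH, h]

theorem sH_wprod {r : List ℕ} (h : ∀ x ∈ r, x < 4) : ((wprod sH r : XY) : P) = wprod s r :=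
  map_wprod XY.subtype sH s r fun x hx => sH_val (h x hx)

theorem sH_one : sH 1 = (sH 0)⁻¹ := Subtype.ext (by
  rw [Subgroup.coe_inv, sH_val (by omega), sH_val (by omega), s_one])

theorem sH_three : sH 3 = (sH 2)⁻¹ := Subtype.ext (by
  rw [Subgroup.coe_inv, sH_val (by omega), sH_val (by omega), s_three])

theorem sH_x4 : sH 0 ^ 4 = 1 := Subtype.ext (by
  rw [Subgroup.coe_pow, sH_val (by omega), s_x4]; rfl)

theorem sH_rel : ∀ r ∈ S12600.rels, wprod sH r = 1 := by
  intro r hr
  have hlt : S12600.rels.all (fun r => r.all fun x => Nat.blt x 4) = true := by decide +kernel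
  simp only [List.all_eq_true, Nat.blt_eq] at hlt
  refine Subtype.ext ?_
  rw [sH_wprod (hlt r hr)]
  have hsub : S12600.rels.all (fun r => r == [0, 0, 0, 0] || P352.rels.contains r) = true := by decide +kernel
  simp only [List.all_eq_true, Bool.or_eq_true, beq_iff_eq, List.contains_iff_mem] at hsub
  rcases hsub r hr with rfl | h
  · simpa [wprod, pow_succ, mul_assoc] using s_x4
  · exact s_rel h

theorem sH_gen : Subgroup.closure (sH '' Set.Iio 4) = ⊤ := by
  refine eq_top_iff.2 (le_of_eq_of_le (Subgroup.closure_closure_coe_preimage (k := ({s 0, s 2} : Set P))).symm ?_)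
  refine (Subgroup.closure_le (G := XY) _).2 ?_
  rintro ⟨g, hg⟩ hg'
  rcases hg' with h | h
  · exact Subgroup.subset_closure ⟨0, by simp, Subtype.ext ((sH_val (by omega)).trans h.symm)⟩
  · exact Subgroup.subset_closure ⟨2, by simp, Subtype.ext ((sH_val (by omega)).trans h.symm)⟩

/-- `⟨y, v⟩`. -/
def YV : Subgroup XY := Subgroup.closure {sH 2, wprod sH [1, 2, 2, 2, 0]}

theorem yv_index : YV.index ≠ 0 ∧ YV.index ≤ 12600 :=
  S12600.covered.index_le sH YV
    (good_of _ rfl sH sH_one sH_three (by simp [sH]) fun n hn => dif_neg (by omega))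
    sH_rel
    (fun r hr => by
      have hr' : r ∈ [[2], [1, 2, 2, 2, 0]] := hr
      simp only [List.mem_cons, List.not_mem_nil, or_false] at hr'
      rcases hr' with rfl | rfl
      · simpa [wprod, YV] using Subgroup.subset_closure (k := {sH 2, wprod sH [1, 2, 2, 2, 0]}) (Or.inl rfl)
      · exact Subgroup.subset_closure (Or.inr rfl))
    sH_gen

/-- The order bound for a group generated by `y` and an involution `v`. -/
theorem card_le_120 {G : Type*} [Group G] {y v : G} (h6 : y ^ 6 = 1) (h2 : v * v = 1)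
    (h4 : (y * v) ^ 4 = 1) (h3 : (y * y * v) ^ 3 = 1) (hgen : Subgroup.closure {y, v} = ⊤) :
    Nat.card G ≠ 0 ∧ Nat.card G ≤ 120 := by
  let t : ℕ → G := fun n => match n with
    | 0 => y
    | 1 => y⁻¹
    | 2 => v
    | _ => 1
  have hg : Good S5.cert t := by
    refine ⟨rfl, fun x => ?_⟩
    rcases Nat.lt_or_ge x 16 with hx | hx
    · interval_cases x <;>
        first
          | exact (inv_inv y).symm
          | exact eq_inv_of_mul_eq_one_left h2
          | exact inv_one.symm
          | exact rfl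
    · have e : S5.cert.iv x = x := by
        unfold CosetInv.Cert.iv
        rw [show Nat.blt x 16 = false by
          cases hb : Nat.blt x 16
          · rfl
          · exact absurd (Nat.blt_eq.mp hb) (by omega)]
        rfl
      obtain ⟨k, rfl⟩ : ∃ k, x = k + 3 := ⟨x - 3, by omega⟩
      rw [e]
      exact inv_one.symm
  have hR : ∀ r ∈ S5.cert.rels, wprod t r = 1 := by
    intro r hr
    change r ∈ S5.rels at hr
    simp only [S5.rels, List.mem_cons, List.not_mem_nil, or_false] at hr
    rcases hr with rfl | rfl | rfl | rfl | rfl | rfl | rfl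
    · simpa [wprod, t, pow_succ, mul_assoc] using h6
    · simpa [wprod, t] using h2
    · simpa [wprod, t, pow_succ, mul_assoc] using h4
    · simpa [wprod, t, pow_succ, mul_assoc] using h3
    · simp [wprod, t]
    · simp [wprod, t]
    · simpa [wprod, t] using h2
  have hgen' : Subgroup.closure (t '' Set.Iio 3) = ⊤ := by
    rw [eq_top_iff, ← hgen]
    exact Subgroup.closure_mono (by
      rintro g (rfl | rfl)
      · exact ⟨0, by simp, rfl⟩
      · exact ⟨2, by simp, rfl⟩)
  have h := S5.covered.index_le t ⊥ hg hR (fun r hr => absurd hr (by simp [S5.cert, S5.subs])) hgen'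
  rwa [Subgroup.index_bot] at h

theorem yv_card : Nat.card YV ≠ 0 ∧ Nat.card YV ≤ 120 := by
  have rel' : ∀ r ∈ P352.rels, (∀ x ∈ r, x < 4) → wprod sH r = 1 := fun r hr h =>
    Subtype.ext ((sH_wprod h).trans (s_rel hr))
  have hx2 : sH 0 * sH 0 * sH 2 * (sH 0 * sH 0) * (sH 2)⁻¹ = 1 := by
    have := rel' [0, 0, 2, 0, 0, 3] (by decide +kernel) (by decide)
    simpa [wprod, sH_three, mul_assoc] using this
  have hx4 := sH_x4
  have hy6 : sH 2 ^ 6 = 1 := by
    simpa [wprod, pow_succ, mul_assoc] using rel' [2, 2, 2, 2, 2, 2] (by decide +kernel) (by decide)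
  have hA := rel' [0, 2, 0, 2, 2, 2, 0, 2, 0, 2, 2, 2, 0, 2, 0, 2, 2, 2, 0, 2, 0, 2, 2, 2]
    (by decide +kernel) (by decide)
  have hB := rel' [1, 2, 2, 0, 2, 2, 2, 1, 2, 2, 0, 2, 2, 2, 1, 2, 2, 0, 2, 2, 2]
    (by decide +kernel) (by decide)
  simp only [wprod, List.map_cons, List.map_nil, List.prod_cons, List.prod_nil, mul_one, sH_one] at hA hB
  generalize hx : sH 0 = x at hx2 hx4 hA hB
  generalize hy : sH 2 = y at hx2 hy6 hA hB
  -- `x ^ 2` commutes with `y`
  have hc : Commute (x * x) y := by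
    have h1 : x * x * y * (x * x) = y := mul_inv_eq_one.1 hx2
    have hi : x * x * (x * x) = 1 := by simpa [pow_succ, mul_assoc] using hx4
    show x * x * y = y * (x * x)
    calc x * x * y = x * x * y * ((x * x) * (x * x)) := by rw [hi, mul_one]
      _ = (x * x * y * (x * x)) * (x * x) := by simp only [mul_assoc]
      _ = y * (x * x) := by rw [h1]
  have hc' : Commute (x * x) x := (Commute.refl x).mul_left (Commute.refl x)
  have hv : wprod sH [1, 2, 2, 2, 0] = x⁻¹ * (y * y * y) * x := by
    simp [wprod, sH_one, ← hx, ← hy, mul_assoc]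
  refine card_le_120 (y := (⟨sH 2, Subgroup.subset_closure (Or.inl rfl)⟩ : YV))
    (v := (⟨wprod sH [1, 2, 2, 2, 0], Subgroup.subset_closure (Or.inr rfl)⟩ : YV))
    (Subtype.ext ?_) (Subtype.ext ?_) (Subtype.ext ?_) (Subtype.ext ?_) ?_
  · rw [Subgroup.coe_pow, Subgroup.coe_one]; exact hy ▸ hy6
  · rw [Subgroup.coe_mul, Subgroup.coe_one]
    show wprod sH [1, 2, 2, 2, 0] * wprod sH [1, 2, 2, 2, 0] = 1
    rw [hv]
    have h := congrArg (fun g => x⁻¹ * g * x) hy6
    simpa [pow_succ, mul_assoc] using h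
  · rw [Subgroup.coe_pow, Subgroup.coe_mul, Subgroup.coe_one]
    show (sH 2 * wprod sH [1, 2, 2, 2, 0]) ^ 4 = 1
    rw [hv, hy]
    have e : y * (x⁻¹ * (y * y * y) * x) = (x * x) * (y * x * (y * y * y) * x) := by
      have hx3 : x⁻¹ = (x * x) * x := inv_eq_of_mul_eq_one_right (by simpa [pow_succ, mul_assoc] using hx4)
      rw [hx3]
      calc y * ((x * x) * x * (y * y * y) * x) = (y * (x * x)) * x * (y * y * y) * x := by
            simp only [mul_assoc]
        _ = (x * x * y) * x * (y * y * y) * x := by rw [hc.eq]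
        _ = _ := by simp only [mul_assoc]
    have hcc : Commute (x * x) (y * x * (y * y * y) * x) :=
      ((hc.mul_right hc').mul_right ((hc.mul_right hc).mul_right hc)).mul_right hc'
    rw [e, hcc.mul_pow, show (x * x) ^ 4 = (x ^ 4) ^ 2 by rw [← sq, ← pow_mul, ← pow_mul], hx4,
      one_pow, one_mul]
    have h := congrArg (fun g => x⁻¹ * g * x) hA
    simpa [pow_succ, mul_assoc] using h
  · rw [Subgroup.coe_pow, Subgroup.coe_mul, Subgroup.coe_mul, Subgroup.coe_one]
    show (sH 2 * sH 2 * wprod sH [1, 2, 2, 2, 0]) ^ 3 = 1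
    rw [hv, hy]
    have e : y * y * (x⁻¹ * (y * y * y) * x) = y * y * x * (y * y * y) * x⁻¹ := by
      have hx3 : x⁻¹ = (x * x) * x := inv_eq_of_mul_eq_one_right (by simpa [pow_succ, mul_assoc] using hx4)
      have hcy : Commute (x * x) (y * y * y) := (hc.mul_right hc).mul_right hc
      rw [hx3]
      calc y * y * ((x * x) * x * (y * y * y) * x) = y * y * (x * ((x * x) * (y * y * y)) * x) := by
            simp only [mul_assoc]
        _ = y * y * (x * ((y * y * y) * (x * x)) * x) := by rw [hcy.eq]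
        _ = _ := by simp only [mul_assoc]
    rw [e]
    have h := congrArg (fun g => x * g * x⁻¹) hB
    simpa [pow_succ, mul_assoc] using h
  · refine eq_top_iff.2 (le_of_eq_of_le
      (Subgroup.closure_closure_coe_preimage (k := ({sH 2, wprod sH [1, 2, 2, 2, 0]} : Set XY))).symm
      (Subgroup.closure_mono ?_))
    rintro ⟨g, hg⟩ (h | h)
    · exact Or.inl (Subtype.ext h)
    · exact Or.inr (Subtype.ext h)

/-- The presented group is finite, of order at most `352 · 12600 · 120`. -/
theorem card_P : Nat.card P ≠ 0 ∧ Nat.card P ≤ 532224000 := by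
  obtain ⟨a0, a⟩ := xy_index
  obtain ⟨b0, b⟩ := yv_index
  obtain ⟨c0, c⟩ := yv_card
  have e1 := YV.card_mul_index
  have e2 := XY.card_mul_index
  rw [← e2, ← e1]
  refine ⟨mul_ne_zero (mul_ne_zero c0 b0) a0, ?_⟩
  calc _ ≤ 120 * 12600 * 352 := Nat.mul_le_mul (Nat.mul_le_mul c b) a
    _ = 532224000 := by norm_num

end CfsgLib.StructB.HN2HS
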